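import Groth.Agent.CplRegular.Stalk

/-! Infinitesimal neighbourhoods in the base change to the completion. -/

universe u

set_option autoImplicit false
set_option linter.style.haveILetI false

open CategoryTheory CategoryTheory.Limits AlgebraicGeometry IsLocalRing TensorProduct

namespace Groth.Agent.CplQuot

/-- A map identifying the quotients by the `n`th powers of the maximal ideals. -/
def QBij (n : ℕ) {R S : CommRingCat.{u}} [IsLocalRing R] [IsLocalRing S] (g : R ⟶ S) : Prop :=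
  (maximalIdeal S ^ n).comap g.hom = maximalIdeal R ^ n ∧ ∀ s : S, ∃ r : R, s - g.hom r ∈ maximalIdeal S ^ n

theorem qBij_of_iso (n : ℕ) {R S R' S' : CommRingCat.{u}} [IsLocalRing R] [IsLocalRing S] [IsLocalRing R'] [IsLocalRing S']
    (g : R ⟶ S) (g' : R' ⟶ S') (a : R ≅ R') (b : S ≅ S') (h : a.hom ≫ g' = g ≫ b.hom) (hg : QBij n g) :
    QBij n g' := by
  let ea := a.commRingCatIsoToRingEquiv
  let eb := b.commRingCatIsoToRingEquiv
  have hca : ∀ r, g'.hom (ea r) = eb (g.hom r) := fun r => congrArg (fun k : R ⟶ S' => k.hom r) h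
  have ha : (maximalIdeal R ^ n).map ea.toRingHom = maximalIdeal R' ^ n := by
    rw [Ideal.map_pow]; congr 1; exact eq_maximalIdeal (Ideal.map_isMaximal_of_equiv ea)
  have hb : (maximalIdeal S ^ n).map eb.toRingHom = maximalIdeal S' ^ n := by
    rw [Ideal.map_pow]; congr 1; exact eq_maximalIdeal (Ideal.map_isMaximal_of_equiv eb)
  have hmem : ∀ x, eb x ∈ maximalIdeal S' ^ n ↔ x ∈ maximalIdeal S ^ n := fun x => by
    rw [← hb]
    exact ⟨fun hx => by
      obtain ⟨y, hy, hyx⟩ := (Ideal.mem_map_iff_of_surjective _ eb.surjective).1 hx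
      exact eb.injective hyx ▸ hy, fun hx => Ideal.mem_map_of_mem _ hx⟩
  have hmem' : ∀ x, ea x ∈ maximalIdeal R' ^ n ↔ x ∈ maximalIdeal R ^ n := fun x => by
    rw [← ha]
    exact ⟨fun hx => by
      obtain ⟨y, hy, hyx⟩ := (Ideal.mem_map_iff_of_surjective _ ea.surjective).1 hx
      exact ea.injective hyx ▸ hy, fun hx => Ideal.mem_map_of_mem _ hx⟩
  refine ⟨Ideal.ext fun r' => ?_, fun s' => ?_⟩
  · obtain ⟨r, rfl⟩ := ea.surjective r'
    rw [Ideal.mem_comap, hca, hmem, hmem', ← hg.1, Ideal.mem_comap]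
  · obtain ⟨s, rfl⟩ := eb.surjective s'
    obtain ⟨r, hr⟩ := hg.2 s
    exact ⟨ea r, by rw [hca, ← map_sub, hmem]; exact hr⟩

/-- The algebraic core: localising a map which is bijective modulo an ideal inside the prime. -/
theorem qBij_localRingHom {B T : Type u} [CommRing B] [CommRing T] (φ : B →+* T) (Q : Ideal T) [Q.IsPrime]
    (J : Ideal B) (n : ℕ) (hn : n ≠ 0) (hJ : J ≤ (Q.comap φ) ^ n) (hQ : Q = (Q.comap φ).map φ)
    (hsurj : ∀ t, ∃ b, t - φ b ∈ J.map φ) (ρ : T →+* B ⧸ J) (hρ : ∀ b, ρ (φ b) = Ideal.Quotient.mk J b) :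
    QBij n (R := CommRingCat.of (Localization.AtPrime (Q.comap φ))) (S := CommRingCat.of (Localization.AtPrime Q))
      (CommRingCat.ofHom (Localization.localRingHom (Q.comap φ) Q φ rfl)) := by
  set P := Q.comap φ
  set R := Localization.AtPrime P
  set S := Localization.AtPrime Q
  let g := Localization.localRingHom P Q φ rfl
  have hg : ∀ b, g (algebraMap B R b) = algebraMap T S (φ b) := fun b => Localization.localRingHom_to_map _ _ _ rfl b
  have hJQ : J.map φ ≤ Q :=
    (Ideal.map_mono (hJ.trans (Ideal.pow_le_self hn))).trans Ideal.map_comap_le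
  have hmS : (maximalIdeal R ^ n).map g = maximalIdeal S ^ n := by
    rw [Ideal.map_pow, ← Localization.AtPrime.map_eq_maximalIdeal, ← Localization.AtPrime.map_eq_maximalIdeal,
      Ideal.map_map, show g.comp (algebraMap B R) = (algebraMap T S).comp φ from RingHom.ext hg,
      ← Ideal.map_map, ← hQ]
  have hJS : ∀ t ∈ J.map φ, algebraMap T S t ∈ maximalIdeal S ^ n := fun t ht => by
    rw [← hmS, ← Localization.AtPrime.map_eq_maximalIdeal, ← Ideal.map_pow, Ideal.map_map,
      show g.comp (algebraMap B R) = (algebraMap T S).comp φ from RingHom.ext hg, ← Ideal.map_map]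
    exact Ideal.mem_map_of_mem _ (Ideal.map_mono hJ ht)
  let π₀ : B ⧸ J →+* R ⧸ maximalIdeal R ^ n := Ideal.quotientMap _ (algebraMap B R) (Ideal.map_le_iff_le_comap.1 (by
    rw [← Localization.AtPrime.map_eq_maximalIdeal, ← Ideal.map_pow]
    exact Ideal.map_mono hJ))
  have hu : ∀ u : Q.primeCompl, IsUnit (π₀.comp ρ u) := by
    rintro ⟨u, hu⟩
    obtain ⟨c, hc⟩ := hsurj u
    have hcP : c ∈ P.primeCompl := fun hcP => hu (by
      have := Q.add_mem (hJQ hc) (show φ c ∈ Q from hcP)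
      rwa [sub_add_cancel] at this)
    have hρu : ρ u = Ideal.Quotient.mk J c := by
      rw [← hρ c, ← sub_eq_zero, ← map_sub]
      have hle : J.map φ ≤ RingHom.ker ρ := Ideal.map_le_iff_le_comap.2 fun j hj => by
        rw [Ideal.mem_comap, RingHom.mem_ker, hρ]; exact Ideal.Quotient.eq_zero_iff_mem.2 hj
      exact hle hc
    show IsUnit (π₀ (ρ u))
    rw [hρu]
    exact (IsLocalization.map_units R (⟨c, hcP⟩ : P.primeCompl)).map (Ideal.Quotient.mk _)
  let π : S →+* R ⧸ maximalIdeal R ^ n := IsLocalization.lift hu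
  have hπ : π.comp g = Ideal.Quotient.mk _ := by
    refine IsLocalization.ringHom_ext P.primeCompl (RingHom.ext fun b => ?_)
    show π (g (algebraMap B R b)) = _
    rw [hg, IsLocalization.lift_eq]
    show π₀ (ρ (φ b)) = _
    rw [hρ]
    rfl
  refine ⟨le_antisymm (fun r hr => ?_) ?_, fun s => ?_⟩
  · have h1 : maximalIdeal S ^ n ≤ RingHom.ker π := by
      rw [← hmS, Ideal.map_le_iff_le_comap]
      intro x hx
      rw [Ideal.mem_comap, RingHom.mem_ker, ← RingHom.comp_apply π g, hπ]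
      exact Ideal.Quotient.eq_zero_iff_mem.2 hx
    have h2 : π (g r) = 0 := h1 hr
    rw [← RingHom.comp_apply π g, hπ] at h2
    exact Ideal.Quotient.eq_zero_iff_mem.1 h2
  · exact Ideal.map_le_iff_le_comap.1 hmS.le
  · obtain ⟨t, ⟨u, hu'⟩, rfl⟩ := IsLocalization.exists_mk'_eq Q.primeCompl s
    obtain ⟨b, hb⟩ := hsurj t
    obtain ⟨c, hc⟩ := hsurj u
    have hcP : c ∈ P.primeCompl := fun hcP => hu' (by
      have := Q.add_mem (hJQ hc) (show φ c ∈ Q from hcP)
      rwa [sub_add_cancel] at this)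
    let r := IsLocalization.mk' R b (⟨c, hcP⟩ : P.primeCompl)
    refine ⟨r, ?_⟩
    have hrc : g r * algebraMap T S (φ c) = algebraMap T S (φ b) := by
      rw [← hg, ← hg, ← map_mul]
      congr 1
      exact IsLocalization.mk'_spec R b (⟨c, hcP⟩ : P.primeCompl)
    have hu1 : IsUnit (algebraMap T S u) := IsLocalization.map_units S (⟨u, hu'⟩ : Q.primeCompl)
    refine (Ideal.unit_mul_mem_iff_mem _ hu1).1 ?_
    have e : algebraMap T S u * (IsLocalization.mk' S t (⟨u, hu'⟩ : Q.primeCompl) - g r) =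
        algebraMap T S (t - φ b) - g r * algebraMap T S (u - φ c) := by
      rw [mul_sub, show algebraMap T S u * IsLocalization.mk' S t (⟨u, hu'⟩ : Q.primeCompl) = algebraMap T S t from
        IsLocalization.mk'_spec' S t (⟨u, hu'⟩ : Q.primeCompl), map_sub, map_sub, mul_sub, hrc]
      ring
    show algebraMap T S u * (_ - g r) ∈ _
    rw [e]
    exact Ideal.sub_mem _ (hJS _ hb) (Ideal.mul_mem_left _ _ (hJS _ hc))

theorem qBij_Spec (n : ℕ) {B T : CommRingCat.{u}} (φ : B ⟶ T) (Q : PrimeSpectrum T)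
    (hg : QBij n (R := CommRingCat.of (Localization.AtPrime (Q.asIdeal.comap φ.hom)))
      (S := CommRingCat.of (Localization.AtPrime Q.asIdeal))
      (CommRingCat.ofHom (Localization.localRingHom (Q.asIdeal.comap φ.hom) Q.asIdeal φ.hom rfl))) :
    QBij n ((Spec.map φ).stalkMap Q) := by
  let e := Scheme.arrowStalkMapSpecIso φ Q
  exact qBij_of_iso n (R := CommRingCat.of (Localization.AtPrime (Q.asIdeal.comap φ.hom)))
    (S := CommRingCat.of (Localization.AtPrime Q.asIdeal)) _ ((Spec.map φ).stalkMap Q)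
    (Arrow.leftFunc.mapIso e).symm (Arrow.rightFunc.mapIso e).symm e.inv.w hg

variable (A : Type u) [CommRing A] [IsLocalRing A] (hm : (maximalIdeal A).FG)

include hm in
theorem qBij_tensor (B : Type u) [CommRing B] [Algebra A B] (Q : Ideal (B ⊗[A] Curv2.cpl A)) [Q.IsPrime] (n : ℕ) (hn : n ≠ 0)
    (hA : (maximalIdeal A).map (algebraMap A B) ≤
      Q.comap (Algebra.TensorProduct.includeLeftRingHom : B →+* B ⊗[A] Curv2.cpl A)) :
    QBij n (R := CommRingCat.of (Localization.AtPrime (Q.comap (Algebra.TensorProduct.includeLeftRingHom : B →+* B ⊗[A] Curv2.cpl A))))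
      (S := CommRingCat.of (Localization.AtPrime Q)) (CommRingCat.ofHom (Localization.localRingHom
      (Q.comap (Algebra.TensorProduct.includeLeftRingHom : B →+* B ⊗[A] Curv2.cpl A)) Q
      (Algebra.TensorProduct.includeLeftRingHom : B →+* B ⊗[A] Curv2.cpl A) rfl)) := by
  set ι := (Algebra.TensorProduct.includeLeftRingHom : B →+* B ⊗[A] Curv2.cpl A)
  let C := Curv2.cpl A
  have hker : ∀ (k : ℕ) (c : C), ∃ a : A, c - algebraMap A C a ∈ (maximalIdeal A ^ k).map (algebraMap A C) := by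
    intro k c
    obtain ⟨a, ha⟩ := Submodule.Quotient.mk_surjective _ (AdicCompletion.eval (maximalIdeal A) A k c)
    refine ⟨a, ?_⟩
    have h0 : AdicCompletion.eval (maximalIdeal A) A k (c - algebraMap A C a) = 0 := by
      rw [map_sub, sub_eq_zero, ← ha]
      rfl
    rw [← LinearMap.mem_ker, ← AdicCompletion.pow_smul_top_eq_ker_eval hm, Ideal.smul_top_eq_map] at h0
    exact h0
  have hmem : ∀ (k : ℕ) (x : B) (c : C), c ∈ (maximalIdeal A ^ k).map (algebraMap A C) →
      x ⊗ₜ[A] c ∈ ((maximalIdeal A ^ k).map (algebraMap A B)).map ι := by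
    intro k x c hc
    refine Submodule.span_induction (p := fun y _ => ∀ x : B, x ⊗ₜ[A] y ∈ ((maximalIdeal A ^ k).map (algebraMap A B)).map ι)
      ?_ ?_ ?_ ?_ hc x
    · rintro _ ⟨a, ha, rfl⟩ x
      rw [show x ⊗ₜ[A] algebraMap A C a = ι (algebraMap A B a * x) by
        show x ⊗ₜ[A] algebraMap A C a = (algebraMap A B a * x) ⊗ₜ[A] (1 : C)
        rw [← Algebra.smul_def, Algebra.algebraMap_eq_smul_one, TensorProduct.smul_tmul]]
      exact Ideal.mem_map_of_mem _ (Ideal.mul_mem_right _ _ (Ideal.mem_map_of_mem _ ha))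
    · intro x
      rw [TensorProduct.tmul_zero]
      exact zero_mem _
    · intro y y' _ _ h h' x
      rw [TensorProduct.tmul_add]
      exact add_mem (h x) (h' x)
    · intro r y _ h x
      rw [smul_eq_mul, show x ⊗ₜ[A] (r * y) = ((1 : B) ⊗ₜ[A] r) * (x ⊗ₜ[A] y) by simp]
      exact Ideal.mul_mem_left _ _ (h x)
  have hdense : ∀ (k : ℕ) (z : B ⊗[A] C), ∃ b : B, z - ι b ∈ ((maximalIdeal A ^ k).map (algebraMap A B)).map ι := by
    intro k z
    induction z using TensorProduct.induction_on with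
    | zero => exact ⟨0, by simp⟩
    | tmul x c =>
      obtain ⟨a, ha⟩ := hker k c
      refine ⟨a • x, ?_⟩
      rw [show x ⊗ₜ[A] c - ι (a • x) = x ⊗ₜ[A] (c - algebraMap A C a) by
        rw [TensorProduct.tmul_sub, Algebra.algebraMap_eq_smul_one, ← TensorProduct.smul_tmul]; rfl]
      exact hmem k _ _ ha
    | add x y hx hy =>
      obtain ⟨b, hb⟩ := hx
      obtain ⟨b', hb'⟩ := hy
      exact ⟨b + b', by rw [map_add, add_sub_add_comm]; exact add_mem hb hb'⟩
  let J : Ideal B := (maximalIdeal A ^ n).map (algebraMap A B)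
  let σ : A ⧸ (maximalIdeal A ^ n) →ₐ[A] B ⧸ J :=
    Ideal.Quotient.liftₐ _ (Algebra.ofId A (B ⧸ J)) fun a ha =>
      Ideal.Quotient.eq_zero_iff_mem.2 (Ideal.mem_map_of_mem (algebraMap A B) ha)
  let ρ : B ⊗[A] C →ₐ[A] B ⧸ J := Algebra.TensorProduct.lift (Ideal.Quotient.mkₐ A J)
    (σ.comp (AdicCompletion.evalₐ (maximalIdeal A) n)) fun _ _ => Commute.all _ _
  refine qBij_localRingHom ι Q J n hn ?_ ?_ (fun t => hdense n t) ρ.toRingHom fun b => ?_
  · show (maximalIdeal A ^ n).map (algebraMap A B) ≤ _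
    rw [Ideal.map_pow]
    exact Ideal.pow_right_mono hA n
  · refine le_antisymm (fun z hz => ?_) Ideal.map_comap_le
    obtain ⟨b, hb⟩ := hdense 1 z
    have hle : ((maximalIdeal A ^ 1).map (algebraMap A B)).map ι ≤ (Q.comap ι).map ι := by
      rw [pow_one]; exact Ideal.map_mono hA
    have hbQ : ι b ∈ Q := by
      have := Q.sub_mem hz (Ideal.map_comap_le (hle hb))
      rwa [sub_sub_cancel] at this
    simpa using add_mem (hle hb) (Ideal.mem_map_of_mem ι (show b ∈ Q.comap ι from hbQ))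
  · show ρ (b ⊗ₜ[A] (1 : C)) = _
    rw [Algebra.TensorProduct.lift_tmul, map_one, mul_one]
    rfl

include hm in
theorem qBij_fst {X : Scheme.{u}} (f : X ⟶ Spec (CommRingCat.of A)) (y : Curv2.bcCpl A f)
    (hy : f ((Curv2.bcCplFst A f) y) = closedPoint A) (n : ℕ) (hn : n ≠ 0) : QBij n ((Curv2.bcCplFst A f).stalkMap y) := by
  let x := (Curv2.bcCplFst A f) y
  let R := Γ(X, (exists_isAffineOpen_mem_and_subset (X := X) (x := x) (U := ⊤) trivial).choose)
  obtain ⟨hU, hxU, -⟩ := (exists_isAffineOpen_mem_and_subset (X := X) (x := x) (U := ⊤) trivial).choose_spec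
  let j := hU.fromSpec
  obtain ⟨P, hP⟩ : x ∈ Set.range j := by rw [hU.range_fromSpec]; exact hxU
  obtain ⟨φ, hφ⟩ := Spec.map_surjective (j ≫ f)
  algebraize [φ.hom]
  let C := Curv2.cpl A
  let c := Spec.map (CommRingCat.ofHom (algebraMap A C))
  let ι : CommRingCat.of R ⟶ CommRingCat.of (R ⊗[A] C) := CommRingCat.ofHom Algebra.TensorProduct.includeLeftRingHom
  let e : Spec (CommRingCat.of (R ⊗[A] C)) ⟶ Curv2.bcCpl A f :=
    (pullbackSpecIso A R C).inv ≫ pullback.map (Spec.map φ) c f c j (𝟙 _) (𝟙 _) (by rw [Category.comp_id, hφ]) (by simp)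
  haveI : IsOpenImmersion e := inferInstanceAs (IsOpenImmersion ((pullbackSpecIso A R C).inv ≫ _))
  have he : e ≫ Curv2.bcCplFst A f = Spec.map ι ≫ j := by
    rw [Category.assoc, pullback.lift_fst, ← Category.assoc]
    congr 1
    exact pullbackSpecIso_inv_fst A R C
  have hy' : y ∈ Set.range e := by
    rw [Scheme.Hom.comp_base, TopCat.coe_comp, Set.range_comp, Set.range_eq_univ.mpr ((pullbackSpecIso A R C).inv.surjective),
      Set.image_univ, Scheme.Pullback.range_map]
    exact ⟨⟨P, hP⟩, ⟨_, rfl⟩⟩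
  obtain ⟨Q, hQy⟩ := hy'
  rw [← hQy] at hy ⊢
  have hQ : (maximalIdeal A).map (algebraMap A R) ≤
      (Q : PrimeSpectrum (R ⊗[A] C)).asIdeal.comap (Algebra.TensorProduct.includeLeftRingHom : R →+* R ⊗[A] C) := by
    have h1 : f (j (Spec.map ι Q)) = closedPoint A := by
      rw [← Scheme.Hom.comp_apply (Spec.map ι) j, ← he, Scheme.Hom.comp_apply]
      exact hy
    rw [← Scheme.Hom.comp_apply j f, ← hφ] at h1
    rw [Ideal.map_le_iff_le_comap]
    exact (congrArg PrimeSpectrum.asIdeal h1).ge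
  have hmm : QBij n ((Spec.map ι).stalkMap Q) := by
    haveI : (Q : PrimeSpectrum (R ⊗[A] C)).asIdeal.IsPrime := (Q : PrimeSpectrum (R ⊗[A] C)).isPrime
    exact qBij_Spec n ι (Q : PrimeSpectrum (R ⊗[A] C))
      (qBij_tensor A hm R (Q : PrimeSpectrum (R ⊗[A] C)).asIdeal n hn hQ)
  have key : QBij n ((e ≫ Curv2.bcCplFst A f).stalkMap Q) := by
    have : QBij n ((Spec.map ι ≫ j).stalkMap Q) := by
      refine qBij_of_iso n _ _ (asIso (j.stalkMap (Spec.map ι Q))).symm (Iso.refl _) ?_ hmm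
      rw [Scheme.Hom.stalkMap_comp]
      simp
    exact qBij_of_iso n _ _ ((X.presheaf.stalkCongr (.of_eq (by rw [he])))) (Iso.refl _)
      (by rw [Scheme.Hom.stalkMap_congr_hom _ _ he Q]; simp) this
  refine qBij_of_iso n _ _ (Iso.refl _) (asIso (e.stalkMap Q)).symm ?_ key
  rw [Scheme.Hom.stalkMap_comp]
  simp

end Groth.Agent.CplQuot
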